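import Groth.Agent.TorsCoprodLib.Coprod
import Groth.Agent.FComplLib.BrownQCT

/-!
# The left adjoint `RΓ'` from `D̃_qc` to `D_qct`
-/

set_option autoImplicit false
set_option linter.style.haveILetI false
set_option linter.unusedVariables false
set_option backward.isDefEq.respectTransparency false
set_option backward.isDefEq.respectTransparency.types false
set_option maxHeartbeats 2000000
set_option synthInstance.maxHeartbeats 200000

universe u

open CategoryTheory CategoryTheory.Limits AlgebraicGeometry TopologicalSpace Opposite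
attribute [local instance] HasDerivedCategory.standard

noncomputable section

namespace Groth.Agent.TorsCoprod

open Groth.Agent.FCompl

/-- The right adjoint of a colocalization is a section of it on the colocal objects. -/
theorem isIso_counit_of_colocal {D : Type*} [Category D] {G R : D ⥤ D} (ε : G ⟶ 𝟭 D) (a : G ⊣ R) (P : D → Prop)
    (hP : ∀ E, P (G.obj E)) (hε : ∀ A, P A → IsIso (ε.app A)) (hG : ∀ E, IsIso (G.map (ε.app E))) (T : D)
    (hT : P T) : IsIso (a.counit.app T) := by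
  have key : ∀ A, P A → Function.Bijective fun ψ : A ⟶ G.obj (R.obj T) => ψ ≫ a.counit.app T := fun A hA => by
    haveI := hε A hA
    haveI := hG (R.obj T)
    have hb : Function.Bijective fun ψ : A ⟶ G.obj (R.obj T) => ψ ≫ ε.app (R.obj T) :=
      TorsInj.bijective_comp_counit ε A (R.obj T)
    have e : (fun ψ : A ⟶ G.obj (R.obj T) => ψ ≫ a.counit.app T) =
        (fun χ : G.obj A ⟶ T => inv (ε.app A) ≫ χ) ∘ (a.homEquiv A T).symm ∘ fun ψ => ψ ≫ ε.app (R.obj T) := by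
      funext ψ
      show ψ ≫ _ = inv (ε.app A) ≫ (a.homEquiv A T).symm (ψ ≫ ε.app (R.obj T))
      rw [IsIso.eq_inv_comp, a.homEquiv_counit, G.map_comp, Category.assoc]
      have h1 : ε.app (G.obj (R.obj T)) = G.map (ε.app (R.obj T)) := by
        haveI := hε _ (hP (G.obj (R.obj T)))
        haveI := hε _ (hP (R.obj T))
        exact (TorsInj.bijective_comp_counit ε (G.obj (G.obj (R.obj T))) (R.obj T)).1 (ε.naturality (ε.app (R.obj T))).symm
      refine Eq.trans ?_ (Category.assoc _ _ _)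
      rw [← h1]
      refine Eq.trans (Category.assoc _ _ _).symm ?_
      exact congrArg (· ≫ a.counit.app T) (ε.naturality ψ).symm
    rw [e]
    exact Function.Bijective.comp ⟨fun x y hxy => (cancel_epi _).1 hxy, fun z => ⟨ε.app A ≫ z, by simp⟩⟩
      ((Equiv.bijective _).comp hb)
  obtain ⟨s, hs⟩ := (key T hT).2 (𝟙 T)
  refine ⟨s, (key _ (hP _)).1 ?_, hs⟩
  show (a.counit.app T ≫ s) ≫ a.counit.app T = 𝟙 _ ≫ a.counit.app T
  rw [Category.assoc, Category.id_comp]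
  exact (congrArg (a.counit.app T ≫ ·) hs).trans (Category.comp_id _)

variable {𝔛 𝔜 : FSch.Sys.{u}} {h : 𝔛.IsFormal} {h' : 𝔜.IsFormal} [FTors.HasRgammaT 𝔛 h]

/-- The functor `RΓ' : D̃_qc ⟶ D_qct`. -/
abbrev tildeGamma : (FTors.IsDQCTilde 𝔛 h).FullSubcategory ⥤ (FTors.IsDQCT 𝔛 h).FullSubcategory :=
  ObjectProperty.lift (FTors.IsDQCT 𝔛 h) ((FTors.IsDQCTilde 𝔛 h).ι ⋙ FTors.RgammaT 𝔛 h) fun K => K.property

theorem isLeftAdjoint_tildeGamma (hL : 𝔛.IsLocNoethFormal) : (tildeGamma (𝔛 := 𝔛) (h := h)).IsLeftAdjoint := by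
  haveI := isLeftAdjoint_RgammaT (h := h) hL
  let a := Adjunction.ofIsLeftAdjoint (FTors.RgammaT 𝔛 h)
  let R := (FTors.RgammaT 𝔛 h).rightAdjoint
  have hiso : ∀ T : (FTors.IsDQCT 𝔛 h).FullSubcategory, IsIso (a.counit.app T.obj) := fun T =>
    isIso_counit_of_colocal (FTors.RgammaTε 𝔛 h) a (FTors.IsDTorsF 𝔛 h) (fun E => TorsInj.isDTorsF_RgammaT hL E)
      (fun A hA => TorsInj.isIso_ε_app hL A hA) (fun E => TorsInj.isIso_RgammaT_map_ε hL E) T.obj
      fun i => (T.property i).1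
  have hmem : ∀ T : (FTors.IsDQCT 𝔛 h).FullSubcategory, FTors.IsDQCTilde 𝔛 h (R.obj T.obj) := fun T i => by
    haveI := hiso T
    let e := ((DerivedCategory.homologyFunctor _ i).mapIso (asIso (a.counit.app T.obj))).symm
    exact ⟨isT_of_iso e (T.property i).1,
      (SheafOfModules.isQuasicoherent (ModSite.ringSh (𝔛.Osh h))).prop_of_iso e (T.property i).2⟩
  let R' := ObjectProperty.lift (FTors.IsDQCTilde 𝔛 h) ((FTors.IsDQCT 𝔛 h).ι ⋙ R) hmem
  exact ⟨R', ⟨a.restrictFullyFaithful (FTors.IsDQCTilde 𝔛 h).fullyFaithfulι (FTors.IsDQCT 𝔛 h).fullyFaithfulι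
    (Iso.refl _) (Iso.refl _)⟩⟩

/-- `Rf_* RΓ'` is a left adjoint on `D̃_qc`. -/
theorem isLeftAdjoint_tilde_rgammaT_rpushD (hL : 𝔛.IsLocNoethFormal) (hL' : h = hL.1) [CompactSpace (𝔛.X 0)]
    [CompactSpace (𝔜.X 0)] (f : 𝔛 ⟶ 𝔜) [SiteCmp.HasRpushD (FSch.homMor f h h')]
    [(FTors.IsQCT 𝔛 h).ContainsZero] [(FTors.IsQCT 𝔛 h).IsClosedUnderKernels]
    [(FTors.IsQCT 𝔛 h).IsClosedUnderCokernels] [(FTors.IsQCT 𝔛 h).IsClosedUnderFiniteProducts]
    [PreservesFiniteLimits (FTors.IsQCT 𝔛 h).ι] [PreservesFiniteColimits (FTors.IsQCT 𝔛 h).ι]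
    (hj : (FTors.IsQCT 𝔛 h).ι.mapDerivedCategory.Full ∧ (FTors.IsQCT 𝔛 h).ι.mapDerivedCategory.Faithful ∧
      ∀ G : DerivedCategory (FSch.ModF 𝔛 h),
        (FTors.IsQCT 𝔛 h).ι.mapDerivedCategory.essImage G ↔ FTors.IsDQCT 𝔛 h G) :
    (ObjectProperty.ι (FTors.IsDQCTilde 𝔛 h) ⋙ FTors.RgammaT 𝔛 h ⋙
      SiteCmp.RpushD (FSch.homMor f h h')).IsLeftAdjoint := by
  haveI := isLeftAdjoint_tildeGamma (h := h) hL
  haveI := isLeftAdjoint_dqct_rpushD hL hL' f hj
  exact Functor.isLeftAdjoint_of_iso (F := tildeGamma (𝔛 := 𝔛) (h := h) ⋙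
      (FTors.IsDQCT 𝔛 h).ι ⋙ SiteCmp.RpushD (FSch.homMor f h h'))
    (NatIso.ofComponents (fun _ => Iso.refl _) fun g => (Category.comp_id _).trans (Category.id_comp _).symm)

end Groth.Agent.TorsCoprod
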