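import Groth.Agent.TorsCoprodLib.LocDiv
import Groth.Agent.TorsInjLib.Idem
import Groth.Agent.CoprodPushLib.Basic
import Groth.Agent.SpSeqLib.Acyclic
import Groth.Agent.DerAdjLib.Brown

/-!
# The derived torsion functor of a formal scheme preserves coproducts
-/

set_option autoImplicit false
set_option linter.style.haveILetI false
set_option linter.unusedVariables false
set_option backward.isDefEq.respectTransparency false
set_option backward.isDefEq.respectTransparency.types false
set_option maxHeartbeats 2000000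
set_option synthInstance.maxHeartbeats 200000

universe u

open CategoryTheory CategoryTheory.Limits AlgebraicGeometry TopologicalSpace Opposite
attribute [local instance] HasDerivedCategory.standard

noncomputable section

namespace Groth.Agent.TorsCoprod

open Groth.Agent.FCompl
open Groth.Agent.TorsInj (hq unitR)

variable {𝔛 : FSch.Sys.{u}} {h : 𝔛.IsFormal}

/-- The torsion functor preserves coproducts. -/
theorem preservesCoproduct_gammaT {ι : Type u} (M : ι → FSch.ModF 𝔛 h) :
    PreservesColimit (Discrete.functor M) (FTors.gammaT 𝔛 h) := by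
  classical
  haveI : IsGrothendieckAbelian.{u} (FSch.ModF 𝔛 h) := ModTensor.isGrothendieckAbelian_mod (𝔛.Osh h)
  let G := FTors.gammaT 𝔛 h
  haveI : HasExactColimitsOfShape (Discrete ι) (FSch.ModF 𝔛 h) := inferInstance
  haveI : ∀ i, Mono ((FTors.gammaTι 𝔛 h).app (M i)) := fun i => by
    refine FPLocal.mono_of_locally_zero _ fun V s hs => FPLocal.Locally.of_self fun W g => ?_
    rw [show s = 0 from Subtype.ext hs]
    exact map_zero _
  haveI : Mono ((FTors.gammaTι 𝔛 h).app (∐ M)) := by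
    refine FPLocal.mono_of_locally_zero _ fun V s hs => FPLocal.Locally.of_self fun W g => ?_
    rw [show s = 0 from Subtype.ext hs]
    exact map_zero _
  have e : sigmaComparison G M ≫ (FTors.gammaTι 𝔛 h).app (∐ M) =
      Limits.Sigma.map fun i => (FTors.gammaTι 𝔛 h).app (M i) := Sigma.hom_ext _ _ fun i => by
    rw [ι_comp_sigmaComparison_assoc, Sigma.ι_map]
    exact (FTors.gammaTι 𝔛 h).naturality (Sigma.ι M i)
  haveI : Mono (Limits.Sigma.map fun i => (FTors.gammaTι 𝔛 h).app (M i)) :=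
    inferInstance
  haveI : Mono (sigmaComparison G M ≫ (FTors.gammaTι 𝔛 h).app (∐ M)) := by rw [e]; infer_instance
  haveI : Mono (sigmaComparison G M) := mono_of_mono _ ((FTors.gammaTι 𝔛 h).app (∐ M))
  haveI : Epi (sigmaComparison G M) := by
    refine FPLocal.epi_of_exists_preimage _ fun V s => ?_
    obtain ⟨Sv, hSv, hSv'⟩ := FPLocal.locally_exists_finsum M s.1
    refine ⟨Sv, hSv, fun W g hg => ?_⟩
    obtain ⟨S, t, hSt⟩ := hSv' g hg
    have htor : ∀ i, FTors.IsTorsSect (FTors.openIdealFam 𝔛 h) (M i)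
        (show ModSite.sect (M i) W from if i ∈ S then t i else 0) := fun i => by
      rw [← FPLocal.coprodProj_sum M S t i, ← hSt]
      exact FTors.IsTorsSect.hom _ (FPLocal.mres ((FTors.gammaT 𝔛 h).obj (∐ M)) g.op s).2
    refine ⟨∑ i ∈ S, ((Sigma.ι (fun i => G.obj (M i)) i).val.app (op W)).hom ⟨_, htor i⟩, ?_⟩
    rw [map_sum]
    refine Subtype.ext ?_
    refine Eq.trans ?_ (show (∑ i ∈ S, ((Sigma.ι M i).val.app (op W)).hom (t i) : (∐ M).val.obj (op W)) = _ from
      hSt.symm)
    refine (map_sum (((FTors.gammaTι 𝔛 h).app (∐ M)).val.app (op W)).hom _ _).trans (Finset.sum_congr rfl fun i hi => ?_)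
    refine (congrArg (fun ψ : G.obj (M i) ⟶ ∐ M => (ψ.val.app (op W)).hom ⟨_, htor i⟩)
      ((ι_comp_sigmaComparison_assoc G M i ((FTors.gammaTι 𝔛 h).app (∐ M))).trans
        ((FTors.gammaTι 𝔛 h).naturality (Sigma.ι M i)))).trans ?_
    show ((Sigma.ι M i).val.app (op W)).hom (if i ∈ S then t i else 0) = _
    rw [if_pos hi]
  haveI : IsIso (sigmaComparison G M) := isIso_of_mono_of_epi _
  exact PreservesCoproduct.of_iso_comparison G M

instance preservesCoproducts_gammaT (ι : Type u) : PreservesColimitsOfShape (Discrete ι) (FTors.gammaT 𝔛 h) :=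
  ⟨fun {K} => by
    haveI : PreservesColimit (Discrete.functor (K.obj ∘ Discrete.mk)) (FTors.gammaT 𝔛 h) := preservesCoproduct_gammaT _
    exact preservesColimit_of_iso_diagram _ Discrete.natIsoFunctor.symm⟩

/-- The torsion functor keeps quasi-isomorphisms between complexes of locally divisible modules. -/
theorem quasiIso_gamma_map (hL : 𝔛.IsLocNoethFormal) {K L : CochainComplex (FSch.ModF 𝔛 h) ℤ} (φ : K ⟶ L)
    [QuasiIso φ] (hK : ∀ (U : (𝔛.X 0).Opens), IsAffineOpen U → ∀ i, LocDiv U (K.X i))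
    (hL' : ∀ (U : (𝔛.X 0).Opens), IsAffineOpen U → ∀ i, LocDiv U (L.X i)) :
    QuasiIso (((FTors.gammaT 𝔛 h).mapHomologicalComplex (ComplexShape.up ℤ)).map φ) := by
  rw [SpSeqLib.quasiIso_iff_acyclic_mappingCone]
  refine fun n => HomologicalComplex.ExactAt.of_iso ?_
    (CochainComplex.mappingCone.mapHomologicalComplexIso φ (FTors.gammaT 𝔛 h))
  refine acyclic_gamma hL ((SpSeqLib.quasiIso_iff_acyclic_mappingCone φ).1 ‹_›) (fun U hU i => ?_) n
  exact locDiv_of_iso (HomologicalComplex.homotopyCofiber.XIsoBiprod φ i (i + 1) rfl).symm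
    (locDiv_biprod (hK U hU (i + 1)) (hL' U hU i))

variable [FTors.HasRgammaT 𝔛 h]

/-- The comparison of torsion subcomplexes with the derived torsion functor. -/
def cmp : (FTors.gammaT 𝔛 h).mapHomologicalComplex (ComplexShape.up ℤ) ⋙ DerivedCategory.Q ⟶
    DerivedCategory.Q ⋙ FTors.RgammaT 𝔛 h :=
  Functor.whiskerLeft _ (DerivedCategory.quotientCompQhIso (FSch.ModF 𝔛 h)).inv ≫
    (Functor.associator _ _ _).inv ≫
    Functor.whiskerRight ((FTors.gammaT 𝔛 h).mapHomotopyCategoryFactors (ComplexShape.up ℤ)).inv DerivedCategory.Qh ≫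
    (Functor.associator _ _ _).hom ≫ Functor.whiskerLeft _ (unitR (𝔛 := 𝔛) (h := h)) ≫
    (Functor.associator _ _ _).inv ≫
    Functor.whiskerRight (DerivedCategory.quotientCompQhIso (FSch.ModF 𝔛 h)).hom (FTors.RgammaT 𝔛 h)

theorem isIso_cmp_app_of_isIso (K : CochainComplex (FSch.ModF 𝔛 h) ℤ)
    [IsIso ((unitR (𝔛 := 𝔛) (h := h)).app (hq K))] : IsIso (cmp.app K) := by
  haveI : IsIso ((unitR (𝔛 := 𝔛) (h := h)).app ((HomotopyCategory.quotient _ _).obj K)) := ‹_›
  delta cmp
  simp only [NatTrans.comp_app, Functor.associator_inv_app, Functor.associator_hom_app, Functor.whiskerLeft_app,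
    Functor.whiskerRight_app, Category.id_comp]
  infer_instance

theorem isIso_cmp_app (K : CochainComplex (FSch.ModF 𝔛 h) ℤ) [K.IsKInjective] : IsIso (cmp.app K) := by
  haveI := TorsInj.isIso_unitR_app K
  exact isIso_cmp_app_of_isIso K

/-- The derived torsion functor preserves coproducts. -/
theorem preservesColimit_RgammaT (hL : 𝔛.IsLocNoethFormal) {ι : Type u} (E : ι → DerivedCategory (FSch.ModF 𝔛 h)) :
    PreservesColimit (Discrete.functor E) (FTors.RgammaT 𝔛 h) := by
  classical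
  haveI : IsGrothendieckAbelian.{u} (FSch.ModF 𝔛 h) := ModTensor.isGrothendieckAbelian_mod (𝔛.Osh h)
  choose N hN hinj e using fun a => TorsInj.exists_injective_model (E a)
  let eM : ∀ a, E a ≅ DerivedCategory.Q.obj (N a) := fun a =>
    (e a).some.symm ≪≫ (DerivedCategory.quotientCompQhIso _).app (N a)
  haveI := hN
  let c₀ : Cofan N := Cofan.mk (∐ N) (Sigma.ι N)
  have hc₀ : IsColimit c₀ := coproductIsCoproduct N
  let P := (FTors.gammaT 𝔛 h).mapHomologicalComplex (ComplexShape.up ℤ)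
  let Φ := FTors.RgammaT 𝔛 h
  haveI : ∀ a, IsIso (cmp.app (N a)) := fun a => isIso_cmp_app (N a)
  haveI : IsIso (cmp.app c₀.pt) := by
    obtain ⟨R, φ, hR, hφ, -, hRinj⟩ := KInj.exists_isKInjective_resolution c₀.pt
    haveI := hR
    haveI := hφ
    haveI : QuasiIso (P.map φ) := quasiIso_gamma_map hL φ
      (fun U hU i => locDiv_of_iso (PreservesCoproduct.iso (HomologicalComplex.eval _ (ComplexShape.up ℤ) i) N).symm
        (locDiv_sigma hL _ fun a => hinj a i))
      (fun U hU i => haveI := hRinj i; locDiv_of_injective hL _)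
    haveI := isIso_cmp_app R
    haveI : IsIso ((DerivedCategory.Q ⋙ Φ).map φ) :=
      inferInstanceAs (IsIso (Φ.map (DerivedCategory.Q.map φ)))
    haveI : IsIso ((P ⋙ DerivedCategory.Q).map φ) := inferInstanceAs (IsIso (DerivedCategory.Q.map (P.map φ)))
    haveI : IsIso (cmp.app c₀.pt ≫ (DerivedCategory.Q ⋙ Φ).map φ) := by
      rw [← cmp.naturality φ]
      infer_instance
    exact IsIso.of_isIso_comp_right _ ((DerivedCategory.Q ⋙ Φ).map φ)
  haveI : PreservesColimitsOfShape (Discrete ι) P :=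
    HomologicalComplex.preservesColimitsOfShape_of_eval _ fun k =>
      (inferInstance : PreservesColimitsOfShape (Discrete ι)
        (HomologicalComplex.eval _ (ComplexShape.up ℤ) k ⋙ FTors.gammaT 𝔛 h))
  have hPc : IsColimit (Cofan.mk (P.obj c₀.pt) fun t => P.map (c₀.inj t)) :=
    isColimitCofanMkObjOfIsColimit P _ _ hc₀
  let eP : ∀ t, Φ.obj (E t) ≅ DerivedCategory.Q.obj (P.obj (N t)) := fun t =>
    Φ.mapIso (eM t) ≪≫ (asIso (cmp.app (N t))).symm
  obtain ⟨hQ⟩ := DCohMore.nonempty_isColimit_Q_gen E hc₀ eM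
  obtain ⟨hQ'⟩ := DCohMore.nonempty_isColimit_Q_gen (fun t => Φ.obj (E t)) hPc eP
  refine preservesColimit_of_preserves_colimit_cocone hQ ((isColimitMapCoconeCofanMkEquiv Φ _ _).symm ?_)
  refine IsColimit.ofIsoColimit hQ' (Cofan.ext (asIso (cmp.app c₀.pt)) fun t => ?_)
  show ((eP t).hom ≫ DerivedCategory.Q.map (P.map (c₀.inj t))) ≫ cmp.app c₀.pt =
    Φ.map ((eM t).hom ≫ DerivedCategory.Q.map (c₀.inj t))
  have hn : DerivedCategory.Q.map (P.map (c₀.inj t)) ≫ cmp.app c₀.pt =
      cmp.app (N t) ≫ Φ.map (DerivedCategory.Q.map (c₀.inj t)) := cmp.naturality (c₀.inj t)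
  rw [Category.assoc, hn, Φ.map_comp]
  simp [eP]

/-- The derived torsion functor is triangulated. -/
theorem exists_triangulated_RgammaT :
    ∃ (_ : (FTors.RgammaT 𝔛 h).CommShift ℤ), (FTors.RgammaT 𝔛 h).IsTriangulated := by
  let hr := SiteCmpLib.hres_mod (𝔛.Osh h)
  letI := (KInj.qhAdjunction hr).rightAdjointCommShift ℤ
  haveI := (KInj.qhAdjunction hr).commShift_of_leftAdjoint ℤ
  haveI := (KInj.qhAdjunction hr).isTriangulated_rightAdjoint
  haveI : ((FTors.gammaT 𝔛 h).mapHomotopyCategory (ComplexShape.up ℤ)).IsTriangulated := inferInstance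
  haveI : (DerivedCategory.Qh (C := FSch.ModF 𝔛 h)).IsTriangulated := inferInstance
  haveI h₁ : (FTors.gammaKh (FTors.openIdealFam 𝔛 h)).IsTriangulated :=
    @Functor.IsTriangulated.instComp _ _ _ _ _ _ _ _ _ _ _ _ _ _ _ _ _ _ _ _ _ _ _ _ _ _ _
  haveI : (KInj.rightAdj hr ⋙ FTors.gammaKh (FTors.openIdealFam 𝔛 h)).IsTriangulated :=
    @Functor.IsTriangulated.instComp _ _ _ _ _ _ _ _ _ _ _ _ _ _ _ _ _ _ _ _ _ _ _ _ _ _ _
  let e : FTors.RgammaT 𝔛 h ≅ KInj.rightAdj hr ⋙ FTors.gammaKh (FTors.openIdealFam 𝔛 h) :=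
    Functor.rightDerivedUnique _ _ (unitR (𝔛 := 𝔛) (h := h))
      (KInj.derivedUnit hr (FTors.gammaKh (FTors.openIdealFam 𝔛 h)))
      (HomotopyCategory.quasiIso (FSch.ModF 𝔛 h) (ComplexShape.up ℤ))
  letI := Functor.CommShift.ofIso e.symm ℤ
  haveI := Functor.CommShift.ofIso_compatibility e.symm ℤ
  exact ⟨inferInstance, Functor.isTriangulated_of_iso e.symm⟩

/-- The derived torsion functor is a left adjoint. -/
theorem isLeftAdjoint_RgammaT (hL : 𝔛.IsLocNoethFormal) : (FTors.RgammaT 𝔛 h).IsLeftAdjoint := by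
  haveI : IsGrothendieckAbelian.{u} (FSch.ModF 𝔛 h) := ModTensor.isGrothendieckAbelian_mod (𝔛.Osh h)
  obtain ⟨_, _⟩ := exists_triangulated_RgammaT (𝔛 := 𝔛) (h := h)
  haveI : ∀ T : Type u, PreservesColimitsOfShape (Discrete T) (FTors.RgammaT 𝔛 h) := fun T => ⟨fun {K} => by
    haveI : PreservesColimit (Discrete.functor (K.obj ∘ Discrete.mk)) (FTors.RgammaT 𝔛 h) :=
      preservesColimit_RgammaT hL _
    exact preservesColimit_of_iso_diagram _ Discrete.natIsoFunctor.symm⟩
  exact DerAdjLib.isLeftAdjoint_standard _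

end Groth.Agent.TorsCoprod
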