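import Groth.Agent.TorsInjLib.QIso
import Groth.Agent.FPLocal.Coprod

/-!
# Local divisibility on formal schemes, and torsion subcomplexes of acyclic complexes
-/

set_option autoImplicit false
set_option linter.style.haveILetI false
set_option linter.unusedVariables false
set_option backward.isDefEq.respectTransparency false
set_option backward.isDefEq.respectTransparency.types false
set_option maxHeartbeats 2000000

universe u

open CategoryTheory CategoryTheory.Limits AlgebraicGeometry TopologicalSpace Opposite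

noncomputable section

namespace Groth.Agent.TorsCoprod

open Groth.Agent.FCompl
open Groth.Agent.TorsInj (Kill rs rs_rs rsO_comp dd dd_rs dd_smul dd_dd dd_sub)

variable {𝔛 : FSch.Sys.{u}} {h : 𝔛.IsFormal} (U : (𝔛.X 0).Opens)

/-- Local divisibility. -/
def LocDiv (M : FSch.ModF 𝔛 h) : Prop :=
  ∀ (T : Finset (OR 𝔛 h U)) (f : OR 𝔛 h U) (m : ℕ) (Z : (𝔛.X 0).Opens) (hZ : Z ≤ U), IsAffineOpen Z →
    ∀ u : M.val.obj (op Z), Kill T hZ u → ∀ x ∈ Z,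
    ∃ (Z' : (𝔛.X 0).Opens) (hZ' : Z' ≤ Z), IsAffineOpen Z' ∧ x ∈ Z' ∧ ∃ (n : ℕ) (t : M.val.obj (op Z')),
      Kill T (hZ'.trans hZ) t ∧
        rsO 𝔛 h (hZ'.trans hZ) f ^ (m + n) • t = rsO 𝔛 h (hZ'.trans hZ) f ^ n • rs M hZ' u

variable {U}

theorem locDiv_of_injective (hL : 𝔛.IsLocNoethFormal) (M : FSch.ModF 𝔛 h) [Injective M] : LocDiv U M := by
  intro T f m Z hZ hZa u hu x hx
  obtain ⟨n, t, ht, e⟩ := TorsInj.exists_divide hL hZ hZa (rsO 𝔛 h hZ f) m u hu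
  refine ⟨Z, le_rfl, hZa, hx, n, t, ht, e.trans ?_⟩
  rw [show rs M (le_refl Z) u = u from congr($(M.val.presheaf.map_id (op Z)) u)]

theorem locDiv_of_iso {M N : FSch.ModF 𝔛 h} (φ : M ≅ N) (hM : LocDiv U M) : LocDiv U N := by
  intro T f m Z hZ hZa u hu x hx
  obtain ⟨Z', hZ', hZ'a, hxZ', n, t, ht, e⟩ := hM T f m Z hZ hZa ((φ.inv.val.app (op Z)).hom u) (hu.hom φ.inv) x hx
  refine ⟨Z', hZ', hZ'a, hxZ', n, (φ.hom.val.app (op Z')).hom t, ht.hom φ.hom, ?_⟩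
  rw [← map_smul, e, map_smul, FPLocal.app_mres]
  exact congrArg (fun z => _ • rs N hZ' z) (congrArg (fun ψ : N ⟶ N => (ψ.val.app (op Z)).hom u) φ.inv_hom_id)

theorem raise_exp {Z : (𝔛.X 0).Opens} {M : FSch.ModF 𝔛 h}
    {r : OR 𝔛 h Z} {m n n' : ℕ} (hn : n ≤ n') {t u : M.val.obj (op Z)}
    (e : r ^ (m + n) • t = r ^ n • u) : r ^ (m + n') • t = r ^ n' • u := by
  obtain ⟨k, rfl⟩ := Nat.exists_eq_add_of_le hn
  rw [show m + (n + k) = k + (m + n) by omega, pow_add, mul_smul, e, ← mul_smul, ← pow_add, add_comm k n]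

theorem locDiv_biprod {M N : FSch.ModF 𝔛 h} (hM : LocDiv U M) (hN : LocDiv U N) : LocDiv U (M ⊞ N) := by
  intro T f m Z hZ hZa u hu x hx
  obtain ⟨Z₁, hZ₁, hZ₁a, hx₁, n₁, t₁, ht₁, e₁⟩ := hM T f m Z hZ hZa
    (((biprod.fst : M ⊞ N ⟶ M).val.app (op Z)).hom u) (hu.hom _) x hx
  obtain ⟨Z', hZ', hZ'a, hx', n₂, t₂, ht₂, e₂⟩ := hN T f m Z₁ (hZ₁.trans hZ) hZ₁a
    (((biprod.snd : M ⊞ N ⟶ N).val.app (op Z₁)).hom (rs (M ⊞ N) hZ₁ u)) ((hu.res hZ₁).hom _) x hx₁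
  let r := rsO 𝔛 h ((hZ'.trans hZ₁).trans hZ) f
  have e₁' : r ^ (m + n₁) • rs M hZ' t₁ =
      r ^ n₁ • rs M (hZ'.trans hZ₁) (((biprod.fst : M ⊞ N ⟶ M).val.app (op Z)).hom u) := by
    have h1 := congrArg (rs M hZ') e₁
    rw [mres_smul', mres_smul', map_pow, map_pow, rsO_comp, rs_rs] at h1
    exact h1
  refine ⟨Z', hZ'.trans hZ₁, hZ'a, hx', max n₁ n₂,
    ((biprod.inl : M ⟶ M ⊞ N).val.app (op Z')).hom (rs M hZ' t₁) +
      ((biprod.inr : N ⟶ M ⊞ N).val.app (op Z')).hom t₂, ((ht₁.res hZ').hom _).add (ht₂.hom _), ?_⟩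
  refine (smul_add _ _ _).trans (Eq.trans (congrArg₂ (· + ·)
    ((map_smul ((biprod.inl : M ⟶ M ⊞ N).val.app (op Z')).hom _ _).symm.trans
      ((congrArg ((biprod.inl : M ⟶ M ⊞ N).val.app (op Z')).hom (raise_exp (le_max_left n₁ n₂) e₁')).trans
        (map_smul ((biprod.inl : M ⟶ M ⊞ N).val.app (op Z')).hom _ _)))
    ((map_smul ((biprod.inr : N ⟶ M ⊞ N).val.app (op Z')).hom _ _).symm.trans
      ((congrArg ((biprod.inr : N ⟶ M ⊞ N).val.app (op Z')).hom (raise_exp (le_max_right n₁ n₂) e₂)).trans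
        (map_smul ((biprod.inr : N ⟶ M ⊞ N).val.app (op Z')).hom _ _)))) ?_)
  refine (smul_add _ _ _).symm.trans (congrArg (r ^ max n₁ n₂ • ·) ?_)
  rw [← FPLocal.app_mres, ← FPLocal.app_mres, rs_rs]
  refine Eq.trans ?_ (congrArg (fun ψ : M ⊞ N ⟶ M ⊞ N => (ψ.val.app (op Z')).hom (rs (M ⊞ N) (hZ'.trans hZ₁) u))
    biprod.total)
  rfl

/-- Coproducts of injective modules are locally divisible. -/
theorem locDiv_sigma (hL : 𝔛.IsLocNoethFormal) {ι : Type u} (F : ι → FSch.ModF 𝔛 h) (hF : ∀ i, Injective (F i)) :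
    LocDiv U (∐ F) := by
  classical
  intro T f m Z hZ hZa u hu x hx
  obtain ⟨Z₁, l₁, hxZ₁, S, t, hSt⟩ := FPLocal.Locally.near (FPLocal.locally_exists_finsum F u) hx
  obtain ⟨Z', hZ'a, hxZ', hZ'Z₁⟩ := exists_affine_le (𝔛 := 𝔛) hxZ₁
  have hZ'Z : Z' ≤ Z := hZ'Z₁.trans (leOfHom l₁)
  let c : ∀ i, (F i).val.obj (op Z') := fun i => rs (F i) hZ'Z₁ (if i ∈ S then t i else 0)
  have hc : ∀ i, c i = ((FPLocal.coprodProj F i).val.app (op Z')).hom (rs (∐ F) hZ'Z u) := fun i => by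
    show rs (F i) hZ'Z₁ _ = _
    rw [← FPLocal.coprodProj_sum F S t i, ← hSt]
    refine (FPLocal.app_mres (FPLocal.coprodProj F i) (homOfLE hZ'Z₁) _).symm.trans ?_
    exact congrArg _ (rs_rs hZ'Z₁ (leOfHom l₁) u)
  have hk : ∀ i, Kill T (hZ'Z.trans hZ) (c i) := fun i => hc i ▸ ((hu.res hZ'Z).hom _)
  choose n s hs hs' using fun i =>
    haveI := hF i
    TorsInj.exists_divide hL (hZ'Z.trans hZ) hZ'a (rsO 𝔛 h (hZ'Z.trans hZ) f) m (c i) (hk i)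
  refine ⟨Z', hZ'Z, hZ'a, hxZ', S.sup n, ∑ i ∈ S, ((Sigma.ι F i).val.app (op Z')).hom (s i), ?_, ?_⟩
  · exact Finset.sum_induction _ (fun y => Kill T _ y) (fun _ _ a b => a.add b) ⟨0, fun a _ => smul_zero _⟩
      fun i _ => (hs i).hom _
  · rw [Finset.smul_sum]
    have e : rs (∐ F) hZ'Z u = ∑ i ∈ S, ((Sigma.ι F i).val.app (op Z')).hom (c i) := by
      refine (rs_rs hZ'Z₁ (leOfHom l₁) u).symm.trans ?_
      refine (congrArg (rs (∐ F) hZ'Z₁) hSt).trans ((map_sum _ _ _).trans (Finset.sum_congr rfl fun i hi => ?_))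
      show _ = ((Sigma.ι F i).val.app (op Z')).hom (rs (F i) hZ'Z₁ (if i ∈ S then t i else 0))
      rw [if_pos hi]
      exact (FPLocal.app_mres _ _ _).symm
    rw [e, Finset.smul_sum]
    refine Finset.sum_congr rfl fun i hi => ?_
    rw [← map_smul, raise_exp (Finset.le_sup hi) (hs' i), map_smul]

variable {K : CochainComplex (FSch.ModF 𝔛 h) ℤ}

/-- Killed cycles are locally boundaries of killed sections. -/
theorem exists_killed_boundary (hK : K.Acyclic) (hdiv : ∀ i, LocDiv U (K.X i)) (T : Finset (OR 𝔛 h U)) :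
    ∀ (i j l : ℤ), i + 1 = j → j + 1 = l → ∀ (Z : (𝔛.X 0).Opens) (hZ : Z ≤ U), IsAffineOpen Z →
      ∀ z : (K.X j).val.obj (op Z), dd K j l z = 0 → Kill T hZ z → ∀ x ∈ Z,
      ∃ (Z' : (𝔛.X 0).Opens) (hZ' : Z' ≤ Z), IsAffineOpen Z' ∧ x ∈ Z' ∧
        ∃ u : (K.X i).val.obj (op Z'), Kill T (hZ'.trans hZ) u ∧ dd K i j u = rs (K.X j) hZ' z := by
  classical
  induction T using Finset.induction with
  | empty =>
    intro i j l hij hjl Z hZ hZa z hz _ x hx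
    have hex : (K.sc' i j l).Exact := by
      rw [← K.exactAt_iff' i j l ((ComplexShape.up ℤ).prev_eq' hij) ((ComplexShape.up ℤ).next_eq' hjl)]
      exact hK j
    obtain ⟨Z₁, l₁, hxZ₁, u, hu⟩ := FPLocal.Locally.near (FPLocal.locally_preimage_of_exact (K.sc' i j l) hex z hz) hx
    obtain ⟨Z', hZ'a, hxZ', hZ'Z₁⟩ := exists_affine_le (𝔛 := 𝔛) hxZ₁
    refine ⟨Z', hZ'Z₁.trans (leOfHom l₁), hZ'a, hxZ', rs (K.X i) hZ'Z₁ u, TorsInj.Kill.empty, ?_⟩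
    rw [dd_rs]
    refine (congrArg (rs (K.X j) hZ'Z₁) hu).trans ?_
    exact rs_rs hZ'Z₁ (leOfHom l₁) z
  | insert f T _ ih =>
    intro i j l hij hjl Z hZ hZa z hz hzk x hx
    obtain ⟨e, he⟩ := hzk
    have hzT : Kill T hZ z := ⟨e, fun a ha => he a (Finset.mem_insert_of_mem ha)⟩
    obtain ⟨Z₁, hZ₁, hZ₁a, hx₁, u, hu, hdu⟩ := ih i j l hij hjl Z hZ hZa z hz hzT x hx
    let r₁ := rsO 𝔛 h (hZ₁.trans hZ) f
    obtain ⟨Z₂, hZ₂, hZ₂a, hx₂, w, hw, hdw⟩ := ih (i - 1) i j (sub_add_cancel i 1) hij Z₁ (hZ₁.trans hZ) hZ₁a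
      (r₁ ^ e • u) (by
        rw [dd_smul, hdu]
        have h1 := congrArg (rs (K.X j) hZ₁) (he f (Finset.mem_insert_self f T))
        rw [map_zero, mres_smul', map_pow, rsO_comp] at h1
        exact h1) (hu.smul _) x hx₁
    obtain ⟨Z', hZ', hZ'a, hx', n, t, ht, htw⟩ := hdiv (i - 1) T f e Z₂ ((hZ₂.trans hZ₁).trans hZ) hZ₂a w hw x hx₂
    let r := rsO 𝔛 h (((hZ'.trans hZ₂).trans hZ₁).trans hZ) f
    have hu' : Kill T (((hZ'.trans hZ₂).trans hZ₁).trans hZ)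
        (rs (K.X i) (hZ'.trans hZ₂) u - dd K (i - 1) i t) := (hu.res (hZ'.trans hZ₂)).sub (ht.hom (K.d (i - 1) i))
    have hf : r ^ (e + n) • (rs (K.X i) (hZ'.trans hZ₂) u - dd K (i - 1) i t) = 0 := by
      rw [smul_sub, ← dd_smul]
      refine sub_eq_zero.2 ?_
      refine Eq.trans ?_ (congrArg (dd K (i - 1) i) htw).symm
      rw [dd_smul, dd_rs, hdw, mres_smul' hZ₂, mres_smul' hZ', map_pow, map_pow, rsO_comp, rsO_comp, rs_rs]
      rw [← mul_smul, ← pow_add, add_comm n e]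
    exact ⟨Z', (hZ'.trans hZ₂).trans hZ₁, hZ'a, hx', rs (K.X i) (hZ'.trans hZ₂) u - dd K (i - 1) i t,
      hu'.insert hf, by rw [dd_sub, dd_dd, sub_zero, dd_rs, hdu, rs_rs]⟩

/-- The torsion subcomplex of an acyclic complex of locally divisible modules is acyclic. -/
theorem acyclic_gamma (hL : 𝔛.IsLocNoethFormal) (hK : K.Acyclic)
    (hdiv : ∀ (U : (𝔛.X 0).Opens), IsAffineOpen U → ∀ i, LocDiv U (K.X i)) :
    (((FTors.gammaT 𝔛 h).mapHomologicalComplex (ComplexShape.up ℤ)).obj K).Acyclic := by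
  classical
  intro j
  rw [HomologicalComplex.exactAt_iff' _ (j - 1) j (j + 1)
    ((ComplexShape.up ℤ).prev_eq' (sub_add_cancel j 1)) ((ComplexShape.up ℤ).next_eq' rfl)]
  refine TorsInj.exact_of_locally _ fun V c hc => ?_
  let z : (K.X j).val.obj (op V) := c.1
  have hz : dd K j (j + 1) z = 0 := congrArg Subtype.val hc
  refine FPLocal.locally_of_near (fun A B k l hl => ?_) fun x hx => ?_
  · obtain ⟨t, ht⟩ := hl
    refine ⟨FPLocal.mres _ k.op t, ?_⟩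
    rw [FPLocal.app_mres, ht, ← FPLocal.mres_comp']
  obtain ⟨Z₀, l₀, hxZ₀, n, hn⟩ := FPLocal.Locally.near ((isTorsSect_iff z).1 c.2) hx
  obtain ⟨U, hUa, hxU, hUZ₀⟩ := exists_affine_le (𝔛 := 𝔛) hxZ₀
  haveI := noetherian (h := h) hL hUa
  obtain ⟨T, hT⟩ : (II 𝔛 h U).FG := IsNoetherian.noetherian _
  have hTm : ∀ a ∈ T, a ∈ II 𝔛 h U := fun a ha => hT ▸ Ideal.subset_span ha
  have hV : U ≤ V := hUZ₀.trans (leOfHom l₀)
  have hk : KB (K.X j) n (rs (K.X j) hV z) :=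
    (congrArg (KB (K.X j) n) (FPLocal.mres_comp (M := K.X j) l₀.op (homOfLE hUZ₀).op z)).mpr (hn.res (homOfLE hUZ₀))
  obtain ⟨Z', hZ', hZ'a, hxZ', u, hu, hdu⟩ := exists_killed_boundary hK (hdiv U hUa) T (j - 1) j (j + 1)
    (sub_add_cancel j 1) rfl U le_rfl hUa (rs (K.X j) hV z)
    (by rw [dd_rs, hz, map_zero]) (TorsInj.kill_of_kb hL hUa hTm hk) x hxU
  obtain ⟨n', hn'⟩ := TorsInj.kb_of_kill hL hUa hZ'a hT hu
  refine ⟨Z', homOfLE (hZ'.trans hV), hxZ', ⟨u, FTors.IsTorsSect.of_killedBy (n := n') hn'⟩, Subtype.ext ?_⟩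
  exact hdu.trans (rs_rs hZ' hV z)

end Groth.Agent.TorsCoprod
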